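import Cfsg.Agent.SelfCentralNoncyclic.Basic
import Cfsg.Agent.PSL2Two.Concrete
import Cfsg.Agent.SL2.Elements
import Cfsg.Agent.Classical.Linear.Card
import Cfsg.Agent.S2475
import Cfsg.Agent.S0262
import Cfsg.Agent.Chars.Apps.Burnside
import Cfsg.Agent.Dickson.PSL

/-!
`PSL(2, q)` for `q` odd with `q - 1` or `q + 1` a power of two: every non-cyclic subgroup contains
its centralizer.
-/

set_option autoImplicit false
set_option linter.style.haveILetI false

namespace CfsgLib.SelfCentralNC

open Matrix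

/-- An odd prime power next to a power of two is a prime, or nine. -/
theorem eq_one_or_nine {p f k : ℕ} (hp : p.Prime) (hp2 : p ≠ 2) (hf : 1 ≤ f)
    (h : p ^ f = 2 ^ k + 1 ∨ p ^ f + 1 = 2 ^ k) : f = 1 ∨ p ^ f = 9 := by
  have hpo : Odd p := hp.odd_of_ne_two hp2
  rcases Nat.even_or_odd f with ⟨j, rfl⟩ | hfo
  · right
    set r := p ^ j with hr
    have hrp : p ^ (j + j) = r * r := by rw [hr, pow_add]
    have hro : Odd r := hr ▸ hpo.pow
    have hr3 : 3 ≤ r := by
      have h1 : p ≤ r := hr ▸ le_self_pow₀ hp.one_le (by omega)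
      have := hp2
      have := hp.two_le
      omega
    rw [hrp] at h ⊢
    rcases h with h | h
    · have hd : r * r - 1 = 2 ^ k := by rw [h, Nat.add_sub_cancel]
      have hfac : (r + 1) * (r - 1) = r * r - 1 := by simpa [pow_two] using (Nat.sq_sub_sq r 1).symm
      obtain ⟨a, -, ha⟩ := (Nat.dvd_prime_pow Nat.prime_two).1 (hd ▸ hfac ▸ dvd_mul_left (r - 1) (r + 1))
      obtain ⟨b, -, hb⟩ := (Nat.dvd_prime_pow Nat.prime_two).1 (hd ▸ hfac ▸ dvd_mul_right (r + 1) (r - 1))
      have hb2 : 2 ≤ b := by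
        by_contra hlt
        have := Nat.pow_le_pow_right (show 0 < 2 by norm_num) (show b ≤ 1 by omega)
        omega
      have h4 : 4 ∣ r + 1 := hb ▸ pow_dvd_pow 2 hb2
      have ha1 : a ≤ 1 := by
        by_contra hlt
        have : 4 ∣ r - 1 := ha ▸ pow_dvd_pow 2 (show 2 ≤ a by omega)
        omega
      interval_cases a
      · omega
      · rw [show r = 3 by omega]
    · exfalso
      obtain ⟨s, hs⟩ := hro
      rcases Nat.lt_or_ge k 2 with hk | hk
      · interval_cases k <;> nlinarith
      · have h4 : 4 ∣ r * r + 1 := h ▸ pow_dvd_pow 2 hk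
        rw [hs, show (2 * s + 1) * (2 * s + 1) + 1 = 4 * (s * s + s) + 2 by ring] at h4
        omega
  · left
    -- `ε = 1` for `p ^ f - 1`, `ε = -1` for `p ^ f + 1`
    have key : ∀ x : ℤ, Odd x → (x ^ f - 1).natAbs = 2 ^ k → x ^ f = x := by
      intro x hx hk
      have hgeom := geom_sum_mul x f
      set S := ∑ i ∈ Finset.range f, x ^ i with hS
      have hSo : Odd S := by
        rw [Int.odd_iff, hS, Finset.sum_int_mod, Finset.sum_congr rfl fun i _ => Int.odd_iff.1 (hx.pow (n := i))]
        simp only [Finset.sum_const, Finset.card_range, nsmul_eq_mul, mul_one]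
        exact_mod_cast Nat.odd_iff.1 hfo
      have hd : S.natAbs ∣ 2 ^ k := by rw [← hk, ← hgeom, Int.natAbs_mul]; exact dvd_mul_right _ _
      have h1 : S.natAbs = 1 := Nat.eq_one_of_dvd_coprimes
        ((Nat.coprime_two_right.2 (Int.natAbs_odd.2 hSo)).pow_right k) dvd_rfl hd
      rcases Int.natAbs_eq S with e | e <;> rw [h1] at e <;> rw [e] at hgeom
      · push_cast at hgeom; linarith
      · exfalso
        push_cast at hgeom
        have hx2 : x ^ f + x = 2 := by linarith
        rcases lt_trichotomy x 0 with hneg | hzero | hpos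
        · have := hfo.pow_neg hneg; omega
        · rw [hzero] at hx; exact absurd hx (by decide)
        · have hx1 : x = 1 := by
            have : 0 < x ^ f := by positivity
            omega
          rw [hx1, one_pow] at hk
          have := Nat.two_pow_pos k
          omega
    have hp1 : (p : ℤ) ^ f = p := by
      rcases h with h | h
      · refine key p (by exact_mod_cast hpo) ?_
        have : (p : ℤ) ^ f = 2 ^ k + 1 := by exact_mod_cast h
        rw [this, add_sub_cancel_right, show ((2 : ℤ) ^ k) = ((2 ^ k : ℕ) : ℤ) by push_cast; rfl,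
          Int.natAbs_natCast]
      · have := key (-(p : ℤ)) (by rw [odd_neg]; exact_mod_cast hpo) (by
          rw [hfo.neg_pow]
          have h' : (p : ℤ) ^ f + 1 = 2 ^ k := by exact_mod_cast h
          rw [show -(p : ℤ) ^ f - 1 = -(((2 ^ k : ℕ) : ℤ)) by push_cast; linarith, Int.natAbs_neg,
            Int.natAbs_natCast])
        rw [hfo.neg_pow] at this
        linarith
    have hp1' : p ^ f = p ^ 1 := by rw [pow_one]; exact_mod_cast hp1
    exact Nat.pow_right_injective hp.two_le hp1'

/-- A non-abelian simple `PSL(2, q)` has `q ≠ 2, 3`. -/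
theorem card_field_ge_five {G : Type*} [Group G] [Finite G] [IsSimpleGroup G]
    (hna : ¬ IsMulCommutative G) {F : Type} [Field F] [Fintype F] (hodd : Fintype.card F ≠ 4)
    (e : G ≃* Matrix.ProjectiveSpecialLinearGroup (Fin 2) F) : 5 ≤ Fintype.card F := by
  by_contra hlt
  have hq : 1 < Fintype.card F := Fintype.one_lt_card
  have hcard := CfsgLib.Classical.Linear.card_psl_two (F := F)
  rw [← Nat.card_congr e.toEquiv] at hcard
  have key : ∀ a b : ℕ, Nat.card G = 2 ^ a * 3 ^ b → False := fun a b h => by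
    haveI := CfsgLib.Chars.Apps.isSolvable_of_card_eq_pow_mul_pow G Nat.prime_two Nat.prime_three h
    exact hna ⟨⟨fun x y => IsSimpleGroup.comm_iff_isSolvable.2 inferInstance x y⟩⟩
  rcases (show Fintype.card F = 2 ∨ Fintype.card F = 3 by omega) with hc | hc
  · rw [hc] at hcard; norm_num at hcard
    exact key 1 1 (by norm_num; omega)
  · rw [hc] at hcard; norm_num at hcard
    exact key 2 1 (by norm_num; omega)

section odd

variable {F : Type} [Field F] [Fintype F]

local notation "SL2" => Matrix.SpecialLinearGroup (Fin 2) F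
local notation "PSL" => Matrix.ProjectiveSpecialLinearGroup (Fin 2) F

/-- An odd-order element lifts to an element of odd order. -/
theorem exists_odd_lift (hodd : Fintype.card F % 2 = 1) (x : PSL) (hx : Odd (orderOf x)) :
    ∃ g : SL2, (QuotientGroup.mk g : PSL) = x ∧ ∃ n, Odd n ∧ g ^ n = 1 := by
  obtain ⟨g, hg⟩ := QuotientGroup.mk_surjective (s := Subgroup.center SL2) x
  set n := orderOf x with hn
  refine ⟨g ^ (n + 1), ?_, n, hx, ?_⟩
  · rw [QuotientGroup.mk_pow, hg, pow_succ, hn, pow_orderOf_eq_one, one_mul]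
  · have hc : g ^ n ∈ Subgroup.center SL2 := by
      rw [← QuotientGroup.eq_one_iff, QuotientGroup.mk_pow, hg, hn, pow_orderOf_eq_one]
    have hsq : g ^ n * g ^ n = 1 := by
      rcases CfsgLib.SL2.mem_center_iff'.1 hc with h | h <;> rw [h]
      · exact one_mul 1
      · exact neg_mul_neg 1 1 |>.trans (one_mul 1)
    obtain ⟨j, hj⟩ := hx
    rw [← pow_mul, mul_comm, pow_mul, show n + 1 = 2 * (j + 1) by omega, pow_mul, pow_two, hsq, one_pow]

/-- Odd-order elements commute iff their odd lifts do. -/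
theorem lifts_commute (hodd : Fintype.card F % 2 = 1) {g h : SL2} {n : ℕ} (hn : Odd n) (hh : h ^ n = 1)
    (hc : Commute (QuotientGroup.mk g : PSL) (QuotientGroup.mk h : PSL)) : Commute g h := by
  have h2 := CfsgLib.PSL2Two.two_ne_zero_of_odd hodd
  have e : (QuotientGroup.mk (g * h * g⁻¹ * h⁻¹) : PSL) = 1 := by
    rw [QuotientGroup.mk_mul, QuotientGroup.mk_mul, QuotientGroup.mk_mul, QuotientGroup.mk_inv,
      QuotientGroup.mk_inv, hc.eq]
    group
  rcases CfsgLib.SL2.mem_center_iff'.1 ((QuotientGroup.eq_one_iff _).1 e) with h1 | h1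
  · exact mul_inv_eq_one.1 (by rw [← h1]; group)
  · exfalso
    have h3 : g * h * g⁻¹ = -h := by
      rw [mul_inv_eq_iff_eq_mul] at h1
      rw [h1, neg_mul, one_mul]
    have h4 : (g * h * g⁻¹) ^ n = -1 := by rw [h3, hn.neg_pow, hh]
    rw [conj_pow, hh, mul_one, mul_inv_cancel] at h4
    exact CfsgLib.SL2.neg_one_ne_one h2 h4.symm

/-- The subgroups of odd order: pairwise commuting if they commute with a non-trivial element. -/
theorem comm_of_commute_odd (hodd : Fintype.card F % 2 = 1) {x a b : PSL} (hx : x ≠ 1)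
    (hxo : Odd (orderOf x)) (ha : Odd (orderOf a)) (hb : Odd (orderOf b))
    (hxa : Commute x a) (hxb : Commute x b) : Commute a b := by
  obtain ⟨g, rfl, n, hn, hgn⟩ := exists_odd_lift hodd x hxo
  obtain ⟨u, rfl, i, hi, hui⟩ := exists_odd_lift hodd a ha
  obtain ⟨v, rfl, j, hj, hvj⟩ := exists_odd_lift hodd b hb
  have hg : g ∉ Subgroup.center SL2 := fun hc => hx ((QuotientGroup.eq_one_iff g).2 hc)
  have := CfsgLib.SL2.centralizer_commute hg
    (Subgroup.mem_centralizer_singleton_iff.2 (lifts_commute hodd hn hgn hxa.symm).eq)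
    (Subgroup.mem_centralizer_singleton_iff.2 (lifts_commute hodd hn hgn hxb.symm).eq)
  exact (show Commute u v from this).map (QuotientGroup.mk' (Subgroup.center SL2))

/-- Subgroups of odd order prime to the characteristic have cyclic Sylow subgroups. -/
theorem isCyclic_pgroup (p : ℕ) [Fact p.Prime] [CharP F p] {r : ℕ} [Fact r.Prime] (hr : r ≠ 2)
    (hrp : r ≠ p) {R : Subgroup PSL} (hR : IsPGroup r ↥R) : IsCyclic ↥R := by
  obtain ⟨P, hP⟩ := hR.exists_le_sylow
  have hπ : Function.Surjective (QuotientGroup.mk' (Subgroup.center SL2)) := QuotientGroup.mk'_surjective _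
  obtain ⟨Q, hQ⟩ := Sylow.mapSurjective_surjective hπ r P
  haveI := Cfsg.Agent.S0262.result p r hr hrp Q
  haveI hc : IsCyclic ↥((Q : Subgroup SL2).map (QuotientGroup.mk' (Subgroup.center SL2))) :=
    isCyclic_of_surjective _ (MonoidHom.subgroupMap_surjective _ (Q : Subgroup SL2))
  have hle : R ≤ (Q : Subgroup SL2).map (QuotientGroup.mk' (Subgroup.center SL2)) := by
    refine hP.trans (le_of_eq ?_)
    rw [← hQ]; rfl
  exact isCyclic_of_injective (Subgroup.inclusion hle) (Subgroup.inclusion_injective hle)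

/-- A `p`-subgroup has order at most `q`. -/
theorem card_pgroup_le (p : ℕ) [Fact p.Prime] [CharP F p] (hodd : Fintype.card F % 2 = 1)
    {R : Subgroup PSL} (hR : IsPGroup p ↥R) : Nat.card ↥R ≤ Fintype.card F := by
  obtain ⟨f, hp, hf⟩ := FiniteField.card F p
  obtain ⟨a, ha⟩ := IsPGroup.iff_card.1 hR
  have hcard := CfsgLib.Classical.Linear.card_psl_two (F := F)
  have hdvd : p ^ a ∣ Fintype.card F * (Fintype.card F ^ 2 - 1) :=
    hcard ▸ Dvd.dvd.mul_left (ha ▸ Subgroup.card_subgroup_dvd_card R) _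
  have hcop : Nat.Coprime (p ^ a) (Fintype.card F ^ 2 - 1) := by
    refine Nat.Coprime.pow_left _ (hp.coprime_iff_not_dvd.2 fun hd => ?_)
    have h1 : p ∣ Fintype.card F ^ 2 := hf ▸ dvd_pow (dvd_pow_self p f.ne_zero) two_ne_zero
    have h2 : p ∣ 1 := by
      have := Nat.dvd_sub h1 hd
      rwa [show Fintype.card F ^ 2 - (Fintype.card F ^ 2 - 1) = 1 by
        have := Nat.one_le_pow 2 _ (Fintype.card_pos (α := F)); omega] at this
    exact hp.ne_one (Nat.dvd_one.1 h2)
  exact ha ▸ Nat.le_of_dvd Fintype.card_pos (hcop.dvd_of_dvd_mul_right hdvd)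

/-- The orders of elements when `q - 1` or `q + 1` is a power of two. -/
theorem orderOf_cases (p : ℕ) [Fact p.Prime] [CharP F p] {k : ℕ} (hk : 2 ≤ k)
    (hq : Fintype.card F = 2 ^ k + 1 ∨ Fintype.card F + 1 = 2 ^ k) (h5 : 5 ≤ Fintype.card F) (x : PSL) :
    orderOf x ∣ p ∨ orderOf x ∣ 2 ^ k ∨ (Odd (orderOf x) ∧ ¬ p ∣ orderOf x) := by
  have hmem : orderOf x ∈ Set.range (orderOf : PSL → ℕ) := ⟨x, rfl⟩
  rw [Cfsg.Agent.S2475.result p (by omega)] at hmem
  have hk2 : 2 ^ k = 2 * 2 ^ (k - 1) := by rw [← pow_succ']; congr 1; omega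
  have hodd2 : Even (2 ^ (k - 1)) := Nat.even_pow.2 ⟨even_two, by omega⟩
  have h2d : 2 ∣ Fintype.card F - 1 := ⟨(Fintype.card F - 1) / 2, by omega⟩
  rw [Set.mem_setOf_eq, Nat.gcd_eq_left h2d] at hmem
  have hp : p.Prime := Fact.out
  obtain ⟨f, -, hf⟩ := FiniteField.card F p
  have hpq : p ∣ Fintype.card F := hf ▸ dvd_pow_self p f.ne_zero
  rcases hmem with h | h | h
  · exact .inl h
  all_goals
    rcases hq with hq | hq
  -- the even part and the odd part
  · exact .inr (.inl (h.trans ⟨2, by omega⟩))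
  · refine .inr (.inr ⟨?_, fun hd => ?_⟩)
    · refine Odd.of_dvd_nat ?_ h
      rw [show (Fintype.card F - 1) / 2 = 2 ^ (k - 1) - 1 by omega]
      exact Nat.Even.sub_odd (by omega) hodd2 odd_one
    · have h1 : p ∣ Fintype.card F - 1 := (hd.trans h).trans ⟨2, by omega⟩
      have := Nat.dvd_sub hpq h1
      rw [show Fintype.card F - (Fintype.card F - 1) = 1 by omega] at this
      exact hp.ne_one (Nat.dvd_one.1 this)
  · refine .inr (.inr ⟨?_, fun hd => ?_⟩)
    · refine Odd.of_dvd_nat ?_ h
      rw [show (Fintype.card F + 1) / 2 = 2 ^ (k - 1) + 1 by omega]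
      exact hodd2.add_one
    · have h1 : p ∣ Fintype.card F + 1 := (hd.trans h).trans ⟨2, by omega⟩
      have := Nat.dvd_sub h1 hpq
      rw [show Fintype.card F + 1 - Fintype.card F = 1 by omega] at this
      exact hp.ne_one (Nat.dvd_one.1 this)
  · exact .inr (.inl (h.trans ⟨2, by omega⟩))

/-- `PSL(2, q)` for `q = 9` or a prime next to a power of two. -/
theorem scn_psl {k : ℕ} (hk : 2 ≤ k)
    (hq : Fintype.card F = 2 ^ k + 1 ∨ Fintype.card F + 1 = 2 ^ k) (h5 : 5 ≤ Fintype.card F)
    (hp : (Fintype.card F).Prime ∨ Fintype.card F = 9) : SCN PSL := by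
  classical
  obtain ⟨p, hchar⟩ := CharP.exists F
  haveI := hchar
  haveI : Fact p.Prime := ⟨CharP.char_is_prime F p⟩
  have hp' : p.Prime := Fact.out
  have hpow2 : Even (2 ^ k) := Nat.even_pow.2 ⟨even_two, by omega⟩
  have hodd : Fintype.card F % 2 = 1 := by rw [Nat.even_iff] at hpow2; omega
  have hp2 : p ≠ 2 := by
    rw [← CfsgLib.Dickson.odd_card_iff (F := F) p, Nat.odd_iff]; exact hodd
  have hord : ∀ x : PSL, orderOf x ∣ p ∨ orderOf x ∣ 2 ^ k ∨ (Odd (orderOf x) ∧ ¬ p ∣ orderOf x) :=
    orderOf_cases p hk hq h5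
  have hclass : ∀ u : PSL, orderOf u = 2 →
      ∃ A, CfsgLib.PSL2Two.DihedralCentralizer u A := by
    intro u hu
    obtain ⟨c, hc⟩ := CfsgLib.PSL2Two.one_class hodd u hu
    exact ⟨_, hc ▸ (CfsgLib.PSL2Two.dihedralCentralizer hodd).conj c⟩
  have hCu : ∀ u z : PSL, orderOf u = 2 → Commute z u → ∃ j, orderOf z = 2 ^ j := by
    intro u z hu hzu
    refine ⟨_, Nat.eq_prime_pow_of_unique_prime_dvd (p := 2) (orderOf_pos z).ne' fun {r} hr hrz => ?_⟩
    by_contra hr2
    set w := z ^ (orderOf z / r) with hw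
    have hwo : orderOf w = r := orderOf_pow_orderOf_div (orderOf_pos z).ne' hrz
    have hwu : orderOf (u * w) = 2 * r := by
      rw [(hzu.symm.pow_right _).orderOf_mul_eq_mul_orderOf_of_coprime, hu, hwo]
      rw [hu, hwo]; exact (Nat.coprime_primes Nat.prime_two hr).2 (Ne.symm hr2)
    rcases hord (u * w) with h | h | ⟨h, -⟩ <;> rw [hwu] at h
    · exact hp2 ((Nat.prime_dvd_prime_iff_eq Nat.prime_two hp').1 ((dvd_mul_right 2 r).trans h)).symm
    · exact hr2 ((Nat.prime_dvd_prime_iff_eq hr Nat.prime_two).1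
        (hr.dvd_of_dvd_pow ((dvd_mul_left r 2).trans h)))
    · exact absurd h (by simp [Nat.not_odd_iff_even])
  intro H hH x hx
  have hxH : ∀ h ∈ H, Commute x h := fun h hh => (Subgroup.mem_centralizer_iff.1 hx h hh).symm
  -- a noncentral involution power
  have hinv : ∀ z : PSL, ¬ Odd (orderOf z) → ∃ j : ℕ, orderOf (z ^ j) = 2 := fun z hz =>
    ⟨_, orderOf_pow_orderOf_div (orderOf_pos z).ne' (even_iff_two_dvd.1 (Nat.not_odd_iff_even.1 hz))⟩
  by_cases hx1 : x = 1
  · rw [hx1]; exact one_mem H
  by_cases hev : Odd (orderOf x) ∧ ∀ h ∈ H, Odd (orderOf h)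
  · -- everything has odd order
    obtain ⟨hxo, hHo⟩ := hev
    have hHc : ∀ a ∈ H, ∀ b ∈ H, Commute a b := fun a ha b hb =>
      comm_of_commute_odd hodd hx1 hxo (hHo a ha) (hHo b hb) (hxH a ha) (hxH b hb)
    by_cases hexp : ∃ z : PSL, (z = x ∨ z ∈ H) ∧ p ∣ orderOf z
    · -- then all have order `p`
      obtain ⟨z, hz, hpz⟩ := hexp
      have hzo : orderOf z = p := by
        rcases hord z with h | h | ⟨-, h⟩
        · exact ((Nat.dvd_prime hp').1 h).resolve_left fun e => hp'.ne_one (Nat.dvd_one.1 (e ▸ hpz))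
        · exact absurd ((Nat.prime_dvd_prime_iff_eq hp' Nat.prime_two).1
            (hp'.dvd_of_dvd_pow (hpz.trans h))) hp2
        · exact absurd hpz h
      have hall : ∀ w, Commute z w → Odd (orderOf w) → orderOf w ∣ p := by
        intro w hzw hwo
        by_cases hpw : p ∣ orderOf w
        · rcases hord w with h | h | ⟨-, h⟩
          · exact h
          · exact absurd ((Nat.prime_dvd_prime_iff_eq hp' Nat.prime_two).1
              (hp'.dvd_of_dvd_pow (hpw.trans h))) hp2
          · exact absurd hpw h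
        have hcop : Nat.Coprime p (orderOf w) := hp'.coprime_iff_not_dvd.2 hpw
        have ho : orderOf (z * w) = p * orderOf w := by
          rw [hzw.orderOf_mul_eq_mul_orderOf_of_coprime (by rwa [hzo]), hzo]
        rcases hord (z * w) with h | h | ⟨-, h⟩ <;> rw [ho] at h
        · exact (dvd_mul_left _ _).trans h
        · exact absurd ((Nat.prime_dvd_prime_iff_eq hp' Nat.prime_two).1
            (hp'.dvd_of_dvd_pow ((dvd_mul_right _ _).trans h))) hp2
        · exact absurd (dvd_mul_right _ _) h
      have hzc : Commute z x ∧ ∀ h ∈ H, Commute z h := by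
        rcases hz with rfl | hz
        · exact ⟨Commute.refl z, hxH⟩
        · exact ⟨(hxH z hz).symm, hHc z hz⟩
      have hxp := hall x hzc.1 hxo
      have hHp : ∀ h ∈ H, orderOf h ∣ p := fun h hh => hall h (hzc.2 h hh) (hHo h hh)
      have hHpg : IsPGroup p ↥H := fun a => ⟨1, Subtype.ext (by
        rw [pow_one]; exact orderOf_dvd_iff_pow_eq_one.1 (hHp a a.2))⟩
      -- the join with `x`
      have hxN : Subgroup.zpowers x ≤ Subgroup.normalizer (H : Set PSL) := by
        rw [Subgroup.zpowers_le, Subgroup.mem_normalizer_iff]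
        intro h
        constructor
        · intro hh; rw [(hxH h hh).eq, mul_inv_cancel_right]; exact hh
        · intro hh
          have := hxH _ hh
          have h1 : x * h * x⁻¹ = h := by
            calc x * h * x⁻¹ = x⁻¹ * (x * (x * h * x⁻¹)) := by group
              _ = x⁻¹ * ((x * h * x⁻¹) * x) := by rw [this.eq]
              _ = h := by group
          rwa [h1] at hh
      have hxpg : IsPGroup p ↥(Subgroup.zpowers x) := by
        obtain ⟨i, -, hi⟩ := (Nat.dvd_prime_pow hp').1 (show orderOf x ∣ p ^ 1 by rwa [pow_one])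
        exact IsPGroup.of_card (n := i) (by rw [Nat.card_zpowers, hi])
      have hsup : IsPGroup p ↥(Subgroup.zpowers x ⊔ H) := hxpg.to_sup_of_normal_right' hHpg hxN
      obtain ⟨i, hi⟩ := IsPGroup.iff_card.1 hHpg
      have hi2 : 2 ≤ i := by
        by_contra hlt
        rcases (show i = 0 ∨ i = 1 by omega) with rfl | rfl
        · haveI := (Nat.card_eq_one_iff_unique.1 (hi.trans (pow_zero p))).1
          exact hH inferInstance
        · exact hH (isCyclic_of_prime_card (p := p) (hi.trans (pow_one p)))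
      have h1 := card_pgroup_le p hodd hsup
      have h2 : Nat.card ↥H ≤ Nat.card ↥(Subgroup.zpowers x ⊔ H) := Subgroup.card_le_of_le le_sup_right
      have h3 : p ^ 2 ≤ Nat.card ↥H := hi ▸ Nat.pow_le_pow_right hp'.pos hi2
      obtain ⟨f, -, hf⟩ := FiniteField.card F p
      rcases hp with hpr | h9
      · rw [hf] at hpr
        have hf1 : (f : ℕ) = 1 := Nat.Prime.eq_one_of_pow hpr
        rw [hf1, pow_one] at hf
        exfalso
        nlinarith [hp'.two_le]
      · -- `q = 9`
        have h33 : p ∣ 9 := h9 ▸ hf ▸ dvd_pow_self p f.ne_zero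
        have hp3 : p = 3 := (Nat.prime_dvd_prime_iff_eq hp' Nat.prime_three).1
          (hp'.dvd_of_dvd_pow (show p ∣ 3 ^ 2 by norm_num; exact h33))
        have heq : Subgroup.zpowers x ⊔ H ≤ H := by
          refine le_of_eq (Subgroup.eq_of_le_of_card_ge le_sup_right ?_).symm
          subst hp3
          omega
        exact heq (Subgroup.mem_sup_left (Subgroup.mem_zpowers x))
    · -- prime to `p`: cyclic
      exfalso
      push Not at hexp
      haveI : IsMulCommutative ↥H := ⟨⟨fun a b => Subtype.ext (hHc a a.2 b b.2)⟩⟩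
      haveI : IsZGroup ↥H := by
        refine ⟨fun r hr R => ?_⟩
        haveI := Fact.mk hr
        by_cases hrH : r ∣ Nat.card ↥H
        · obtain ⟨w, hw⟩ := exists_prime_orderOf_dvd_card' r hrH
          have hwo : orderOf (w : PSL) = r := by rw [Subgroup.orderOf_coe, hw]
          have hr2 : r ≠ 2 := fun e => by
            have := hHo w w.2
            rw [hwo, e] at this
            exact absurd this (by decide)
          have hrp : r ≠ p := fun e => hexp w (.inr w.2) (hwo ▸ e ▸ dvd_rfl)
          haveI := isCyclic_pgroup p hr2 hrp (R.2.map H.subtype)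
          exact isCyclic_of_surjective _
            (Subgroup.equivMapOfInjective (R : Subgroup ↥H) _ H.subtype_injective).symm.surjective
        · have hR1 : (R : Subgroup ↥H) = ⊥ := by
            rw [← Subgroup.card_eq_one, R.card_eq_multiplicity,
              Nat.factorization_eq_zero_of_not_dvd hrH, pow_zero]
          have : Subsingleton ↥(R : Subgroup ↥H) := by rw [hR1]; infer_instance
          infer_instance
      haveI : Group.IsNilpotent ↥H :=
        @CommGroup.isNilpotent ↥H { H.toGroup with mul_comm := fun a b => Subtype.ext (hHc a a.2 b b.2) }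
      exact hH inferInstance
  · -- an involution `u` centralized by `x` and `H`
    have hxev : ¬ Odd (orderOf x) := by
      intro hxo
      push Not at hev
      obtain ⟨h, hh, hhev⟩ := hev hxo
      obtain ⟨i, hi⟩ := hinv h hhev
      obtain ⟨j, hj⟩ := hCu _ x hi ((hxH h hh).pow_right i)
      rw [hj, Nat.odd_pow_iff] at hxo
      · exact absurd hxo (by decide)
      · intro e; rw [e, pow_zero, orderOf_eq_one_iff] at hj; exact hx1 hj
    obtain ⟨i, hi⟩ := hinv x hxev
    obtain ⟨A, hA⟩ := hclass _ hi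
    set u := x ^ i with hu
    haveI := hA.cyclic
    have hHu : ∀ h ∈ H, Commute h u := fun h hh => ((hxH h hh).pow_left i).symm
    obtain ⟨h, hh, hhA⟩ : ∃ h ∈ H, h ∉ A := by
      by_contra hall
      push Not at hall
      exact hH (isCyclic_of_injective (Subgroup.inclusion hall) (Subgroup.inclusion_injective hall))
    obtain ⟨hh2, hhinv⟩ := hA.inv h (hHu h hh) hhA
    -- `u ∈ H`
    have huH : u ∈ H := by
      obtain ⟨a, haH, haA, ha1⟩ : ∃ a ∈ H, a ∈ A ∧ a ≠ 1 := by
        by_contra hno
        push Not at hno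
        refine hH ?_
        have hle : H ≤ Subgroup.zpowers h := fun g hg => by
          by_cases hgA : g ∈ A
          · rw [hno g hg hgA]; exact one_mem _
          · have := hno (g * h) (H.mul_mem hg hh) (hA.mul g h (hHu g hg) (hHu h hh) hgA hhA)
            rw [mul_eq_one_iff_eq_inv.1 this]
            exact inv_mem (Subgroup.mem_zpowers h)
        exact isCyclic_of_injective (Subgroup.inclusion hle) (Subgroup.inclusion_injective hle)
      obtain ⟨j, hj⟩ := hCu u a hi (hA.comm a haA)
      obtain ⟨l, hl⟩ := hinv a (by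
        rw [hj, Nat.odd_pow_iff (fun e => ha1 (orderOf_eq_one_iff.1 (by rw [hj, e, pow_zero])))]
        decide)
      rw [← CfsgLib.PSL2Two.involution_unique (A.pow_mem haA l) hA.mem hl hi]
      exact H.pow_mem haH l
    have hxu : Commute x u := (Commute.refl x).pow_right i
    have hsq : ∀ z ∈ A, z * z = 1 → z = 1 ∨ z = u := fun z hz hzz => by
      by_cases hz1 : z = 1
      · exact .inl hz1
      · exact .inr (CfsgLib.PSL2Two.involution_unique hz hA.mem
          (orderOf_eq_prime (by rw [pow_two, hzz]) hz1) hi)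
    by_cases hxA : x ∈ A
    · have h1 := hhinv x hxA
      rw [← (hxH h hh).eq, mul_inv_cancel_right] at h1
      rcases hsq x hxA (by nth_rewrite 1 [h1]; exact inv_mul_cancel x) with e | e
      · exact absurd e hx1
      · rw [e]; exact huH
    · have h2 := hA.mul x h hxu (hHu h hh) hxA hhA
      have h1 := hhinv _ h2
      rw [← mul_assoc h x h, ← (hxH h hh).eq, mul_inv_cancel_right] at h1
      rcases hsq _ h2 (by nth_rewrite 1 [h1]; exact inv_mul_cancel _) with e | e
      · rw [mul_eq_one_iff_eq_inv.1 e]; exact H.inv_mem hh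
      · rw [eq_mul_inv_of_mul_eq e]; exact H.mul_mem huH (H.inv_mem hh)

end odd

end CfsgLib.SelfCentralNC
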