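import Mathlib
import Cfsg.Agent.IsoSubgroups.Basic
import Cfsg.Agent.SymplecticType.Burnside
import Cfsg.Agent.S3918
import Cfsg.Agent.S0071
import Cfsg.Agent.S0199

/-!
Groups in which every non-cyclic subgroup contains its centralizer: basic consequences, and the
absence of such simple groups of odd order.
-/

set_option autoImplicit false
set_option linter.style.haveILetI false

namespace CfsgLib.SelfCentralNC

universe u

variable {G : Type u} [Group G]

/-- Every non-cyclic subgroup contains its centralizer. -/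
def SCN (G : Type u) [Group G] : Prop :=
  ∀ H : Subgroup G, ¬ IsCyclic ↥H → Subgroup.centralizer (H : Set G) ≤ H

theorem SCN.subgroup (h : SCN G) (K : Subgroup G) : SCN ↥K := by
  intro H hH x hx
  have hH' : ¬ IsCyclic ↥(H.map K.subtype) := fun hc => hH <| by
    haveI := hc
    exact isCyclic_of_surjective _ (Subgroup.equivMapOfInjective H K.subtype K.subtype_injective).symm.surjective
  have hx' : (x : G) ∈ Subgroup.centralizer ((H.map K.subtype : Subgroup G) : Set G) := by
    rw [Subgroup.mem_centralizer_iff]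
    rintro _ ⟨y, hy, rfl⟩
    exact congrArg Subtype.val (Subgroup.mem_centralizer_iff.1 hx y hy)
  obtain ⟨y, hy, hyx⟩ := h _ hH' hx'
  rwa [← Subtype.ext hyx]

theorem SCN.congr {H : Type*} [Group H] (h : SCN G) (e : G ≃* H) :
    ∀ K : Subgroup H, ¬ IsCyclic ↥K → Subgroup.centralizer (K : Set H) ≤ K := by
  intro K hK x hx
  have hK' : ¬ IsCyclic ↥(K.comap e.toMonoidHom) := fun hc => hK <| by
    haveI := hc
    refine isCyclic_of_surjective
      ({ toFun := fun y => ⟨e y.1, y.2⟩
         map_one' := Subtype.ext (map_one e)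
         map_mul' := fun a b => Subtype.ext (map_mul e a.1 b.1) } : ↥(K.comap e.toMonoidHom) →* ↥K) ?_
    intro y
    exact ⟨⟨e.symm y.1, by simp [Subgroup.mem_comap]⟩, Subtype.ext (e.apply_symm_apply y.1)⟩
  have hx' : e.symm x ∈ Subgroup.centralizer ((K.comap e.toMonoidHom : Subgroup G) : Set G) := by
    rw [Subgroup.mem_centralizer_iff]
    intro y hy
    apply e.injective
    simp only [map_mul, MulEquiv.apply_symm_apply]
    exact Subgroup.mem_centralizer_iff.1 hx (e y) hy
  simpa using h _ hK' hx'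

theorem not_isCyclic_of_exponent {p : ℕ} [Fact p.Prime] {E : Subgroup G}
    (he : ∀ a ∈ E, a ^ p = 1) (hc : Nat.card E = p ^ 2) : ¬ IsCyclic ↥E := by
  intro hcyc
  obtain ⟨g, hg⟩ := hcyc.exists_generator
  have h1 : Nat.card E ∣ p := by
    rw [← orderOf_eq_card_of_forall_mem_zpowers hg]
    exact orderOf_dvd_of_pow_eq_one (Subtype.ext (he _ g.2))
  rw [hc] at h1
  have := Nat.le_of_dvd (Fact.out : p.Prime).pos h1
  nlinarith [(Fact.out : p.Prime).two_le]

theorem SCN.card_comm_pgroup [Finite G] (h : SCN G) {p : ℕ} [Fact p.Prime] (hG : IsPGroup p G)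
    (hc : ∀ a b : G, a * b = b * a) (hnc : ¬ IsCyclic G) :
    Nat.card G = p ^ 2 ∧ ∀ a : G, a ^ p = 1 := by
  haveI : Nontrivial G := not_subsingleton_iff_nontrivial.1 fun hs => hnc inferInstance
  obtain ⟨k, hk, hk'⟩ := hG.nontrivial_iff_card.mp inferInstance
  obtain ⟨z, hz⟩ := exists_prime_orderOf_dvd_card' p (hk' ▸ dvd_pow_self p hk.ne' : p ∣ Nat.card G)
  obtain ⟨x, hx, hxz⟩ : ∃ x : G, x ^ p = 1 ∧ x ∉ Subgroup.zpowers z := by
    by_contra hno
    push Not at hno
    refine hnc ?_
    haveI := CfsgLib.SymplecticType.isCyclic_of_comm_unique (H := (⊤ : Subgroup G)) hG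
      (fun a _ b _ => hc a b) (z := z) (fun x _ hx => hno x hx) (hz ▸ pow_orderOf_eq_one z)
    exact isCyclic_of_surjective _ Subgroup.topEquiv.surjective
  have hxo : orderOf x = p := orderOf_eq_prime hx fun h1 => hxz (h1 ▸ one_mem _)
  obtain ⟨E, hEe, hEc⟩ := CfsgLib.IsoSubgroups.exists_elementary_sq hG hz hxo hxz
  have htop : (⊤ : Subgroup G) ≤ E := fun g _ =>
    h E (not_isCyclic_of_exponent hEe hEc) (Subgroup.mem_centralizer_iff.2 fun b _ => hc b g)
  refine ⟨?_, fun a => hEe a (htop (Subgroup.mem_top a))⟩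
  rw [← hEc, top_le_iff.1 htop, Subgroup.card_top]

/-- A `q`-element normalizing a small `r`-subgroup centralizes it, for `r < q` odd. -/
theorem centralizes_of_small [Finite G] {r q : ℕ} [Fact r.Prime] [hq : Fact q.Prime] (hr : r ≠ 2)
    (hrq : r < q) {Q : Subgroup G} (hQ : IsPGroup r ↥Q)
    (hsmall : Nat.card ↥Q ≤ r ^ 2 ∨ (Nat.card ↥Q = r ^ 3 ∧ ¬ IsMulCommutative ↥Q) ∨ IsCyclic ↥Q)
    {g : G} (hg : ∃ k, orderOf g = q ^ k) (hgQ : g ∈ Subgroup.normalizer (Q : Set G)) :
    g ∈ Subgroup.centralizer (Q : Set G) := by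
  classical
  have hrp : r.Prime := Fact.out
  have hqp : q.Prime := Fact.out
  obtain ⟨k, hk⟩ := hg
  -- `g` acts on `Q`
  let e : MulAut ↥Q :=
    { toFun := fun y => ⟨g * y.1 * g⁻¹, (Subgroup.mem_normalizer_iff.1 hgQ y.1).1 y.2⟩
      invFun := fun y => ⟨g⁻¹ * y.1 * g, (Subgroup.mem_normalizer_iff.1 hgQ (g⁻¹ * y.1 * g)).2
        (by simpa [mul_assoc] using y.2)⟩
      left_inv := fun y => Subtype.ext (by simp [mul_assoc])
      right_inv := fun y => Subtype.ext (by simp [mul_assoc])
      map_mul' := fun a b => Subtype.ext (by simp [mul_assoc]) }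
  have hepow : ∀ (i : ℕ) (y : ↥Q), ((e ^ i) y : G) = g ^ i * y.1 * (g ^ i)⁻¹ := by
    intro i
    induction i with
    | zero => intro y; simp
    | succ i ih =>
      intro y
      rw [pow_succ', MulAut.mul_apply]
      show g * ((e ^ i) y : G) * g⁻¹ = _
      rw [ih y, pow_succ']
      group
  have heq : e ^ q ^ k = 1 := by
    ext y
    rw [hepow, ← hk, pow_orderOf_eq_one]
    simp
  suffices he : e = 1 by
    rw [Subgroup.mem_centralizer_iff]
    intro y hy
    have := congrArg (fun f : MulAut ↥Q => ((f ⟨y, hy⟩ : ↥Q) : G)) he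
    change g * y * g⁻¹ = y at this
    calc y * g = (g * y * g⁻¹) * g := by rw [this]
      _ = g * y := by group
  obtain ⟨j, hj⟩ := IsPGroup.iff_card.1 hQ
  have hdvd_r : ¬ q ∣ r := fun hd => by
    have := (Nat.prime_dvd_prime_iff_eq hqp hrp).1 hd; omega
  have hsub1 : ¬ q ∣ r - 1 := fun hd => by
    have := Nat.le_of_dvd (by have := hrp.two_le; omega) hd; omega
  have hsq : ¬ q ∣ r ^ 2 - 1 := fun hd => by
    rw [show r ^ 2 - 1 = (r + 1) * (r - 1) by simpa using Nat.sq_sub_sq r 1] at hd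
    rcases hqp.dvd_mul.1 hd with hd | hd
    · have hev : 2 ∣ r + 1 := by
        rcases hrp.eq_two_or_odd with h2 | h2
        · exact absurd h2 hr
        · omega
      have hq2 : q ≠ 2 := by have := hrp.two_le; omega
      have h2q : 2 * q ∣ r + 1 :=
        (Nat.coprime_primes Nat.prime_two hqp).2 (Ne.symm hq2) |>.mul_dvd_of_dvd_of_dvd hev hd
      have := Nat.le_of_dvd (by omega) h2q
      omega
    · exact hsub1 hd
  by_cases hcyc : IsCyclic ↥Q
  · rw [← orderOf_eq_one_iff]
    have h1 : orderOf e ∣ q ^ k := orderOf_dvd_of_pow_eq_one heq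
    have h2 : orderOf e ∣ Nat.card (MulAut ↥Q) := orderOf_dvd_natCard e
    rw [IsCyclic.card_mulAut, hj] at h2
    have hcop : Nat.Coprime (q ^ k) (Nat.totient (r ^ j)) := by
      refine Nat.Coprime.pow_left _ (hqp.coprime_iff_not_dvd.2 ?_)
      rcases Nat.eq_zero_or_pos j with hj0 | hj0
      · subst hj0; simp [hqp.one_lt.ne']
      · rw [Nat.totient_prime_pow hrp hj0]
        intro hd
        rcases hqp.dvd_mul.1 hd with hd | hd
        · exact hdvd_r (hqp.dvd_of_dvd_pow hd)
        · exact hsub1 hd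
    exact Nat.dvd_one.1 (hcop ▸ Nat.dvd_gcd h1 h2)
  -- fixed points
  let Z : Subgroup (MulAut ↥Q) := Subgroup.zpowers e
  have hZ : IsPGroup q ↥Z := by
    obtain ⟨i, -, hi⟩ := (Nat.dvd_prime_pow hqp).1 (orderOf_dvd_of_pow_eq_one heq)
    exact IsPGroup.of_card (n := i) (by rw [Nat.card_zpowers, hi])
  let C : Subgroup ↥Q :=
    { carrier := {y | e y = y}
      one_mem' := map_one e
      mul_mem' := fun {a b} ha hb => by
        show e (a * b) = a * b
        rw [map_mul, ha, hb]
      inv_mem' := fun {a} ha => by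
        show e a⁻¹ = a⁻¹
        rw [map_inv, ha] }
  have hfix : MulAction.fixedPoints ↥Z ↥Q = (C : Set ↥Q) := by
    ext y
    constructor
    · intro hy
      exact hy ⟨e, Subgroup.mem_zpowers e⟩
    · rintro hy ⟨f, i, rfl⟩
      have hst : e ∈ MulAction.stabilizer (MulAut ↥Q) y := hy
      exact (MulAction.stabilizer (MulAut ↥Q) y).zpow_mem hst i
  have hmod := hZ.card_modEq_card_fixedPoints ↥Q
  rw [hfix, SetLike.coe_sort_coe] at hmod
  suffices hC : C = ⊤ by
    ext y
    exact congrArg Subtype.val ((hC.symm ▸ Subgroup.mem_top y : y ∈ C) : e y = y)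
  obtain ⟨i, hi⟩ := IsPGroup.iff_card.1 (hQ.to_subgroup C)
  have hij : i ≤ j := (Nat.pow_le_pow_iff_right hrp.one_lt).1 (hi ▸ hj ▸ Subgroup.card_le_card_group C)
  by_contra hne
  have hij' : i < j := lt_of_le_of_ne hij fun h => hne
    ((Subgroup.card_eq_iff_eq_top C).1 (by rw [hi, hj, h]))
  rw [hj, hi] at hmod
  -- `q ∣ r ^ (j - i) - 1`
  have hd : q ∣ r ^ (j - i) - 1 := by
    have h1 : q ∣ r ^ j - r ^ i :=
      (Nat.modEq_iff_dvd' (Nat.pow_le_pow_right hrp.pos hij)).1 hmod.symm
    rw [show r ^ j - r ^ i = r ^ i * (r ^ (j - i) - 1) by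
      rw [Nat.mul_sub, mul_one, ← pow_add, Nat.add_sub_cancel' hij]] at h1
    exact (hqp.dvd_mul.1 h1).resolve_left fun h => hdvd_r (hqp.dvd_of_dvd_pow h)
  have hj3 : j ≤ 2 ∨ (j = 3 ∧ ¬ IsMulCommutative ↥Q) := by
    rcases hsmall with h | ⟨h, hn⟩ | h
    · exact .inl ((Nat.pow_le_pow_iff_right hrp.one_lt).1 (hj ▸ h))
    · exact .inr ⟨Nat.pow_right_injective hrp.two_le (show r ^ j = r ^ 3 from hj ▸ h), hn⟩
    · exact absurd h hcyc
  have hcases : j - i = 1 ∨ j - i = 2 ∨ (j = 3 ∧ i = 0) := by omega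
  rcases hcases with h | h | ⟨h, h0⟩
  · rw [h, pow_one] at hd; exact hsub1 hd
  · rw [h] at hd; exact hsq hd
  · -- the centre meets `C`
    subst h
    haveI : Nontrivial ↥Q := by
      rw [← Finite.one_lt_card_iff_nontrivial, hj]
      exact Nat.one_lt_pow (by norm_num) hrp.one_lt
    haveI := hQ.center_nontrivial
    obtain ⟨m, hm⟩ := IsPGroup.iff_card.1 (hQ.to_subgroup (Subgroup.center ↥Q))
    have hm0 : 0 < m := by
      by_contra h0'
      have : m = 0 := by omega
      subst this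
      rw [pow_zero] at hm
      exact absurd hm (Finite.one_lt_card.ne' )
    have hm3 : m ≤ 3 := (Nat.pow_le_pow_iff_right hrp.one_lt).1
      (hm ▸ hj ▸ Subgroup.card_le_card_group (Subgroup.center ↥Q))
    have hec : ∀ y ∈ Subgroup.center ↥Q, e y ∈ Subgroup.center ↥Q := by
      intro y hy
      rw [Subgroup.mem_center_iff] at hy ⊢
      intro z
      rw [← e.apply_symm_apply z, ← map_mul, ← map_mul, hy]
    have hC1 : C = ⊥ := Subgroup.card_eq_one.1 (by rw [hi, h0, pow_zero])
    let W := ↥(Subgroup.center ↥Q)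
    -- restricted action
    let e' : MulAut W :=
      { toFun := fun y => ⟨e y.1, hec y.1 y.2⟩
        invFun := fun y => ⟨e.symm y.1, by
          rw [Subgroup.mem_center_iff]
          intro z
          rw [← e.symm_apply_apply z, ← map_mul, ← map_mul, Subgroup.mem_center_iff.1 y.2]⟩
        left_inv := fun y => Subtype.ext (e.symm_apply_apply _)
        right_inv := fun y => Subtype.ext (e.apply_symm_apply _)
        map_mul' := fun a b => Subtype.ext (map_mul e a.1 b.1) }
    have he'p : ∀ (n : ℕ) (y : W), ((e' ^ n) y : ↥Q) = (e ^ n) y.1 := by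
      intro n
      induction n with
      | zero => intro y; simp
      | succ n ih =>
        intro y
        rw [pow_succ', pow_succ', MulAut.mul_apply, MulAut.mul_apply, ← ih]
        rfl
    have he'q : e' ^ q ^ k = 1 := by
      ext y
      rw [he'p, heq]
      simp
    have hZ' : IsPGroup q ↥(Subgroup.zpowers e') := by
      obtain ⟨a, -, ha⟩ := (Nat.dvd_prime_pow hqp).1 (orderOf_dvd_of_pow_eq_one he'q)
      exact IsPGroup.of_card (n := a) (by rw [Nat.card_zpowers, ha])
    have hmod' := hZ'.card_modEq_card_fixedPoints W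
    have hone : MulAction.fixedPoints ↥(Subgroup.zpowers e') W = {1} := by
      ext y
      constructor
      · intro hy
        have h1 : e y.1 = y.1 := congrArg Subtype.val (hy ⟨e', Subgroup.mem_zpowers e'⟩)
        have : y.1 ∈ C := h1
        rw [hC1, Subgroup.mem_bot] at this
        exact Subtype.ext this
      · rintro rfl ⟨f, n, rfl⟩
        exact map_one _
    rw [hone, hm, Nat.card_unique] at hmod'
    have hd' : q ∣ r ^ m - 1 :=
      (Nat.modEq_iff_dvd' (Nat.one_le_pow _ _ hrp.pos)).1 hmod'.symm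
    interval_cases m
    · rw [pow_one] at hd'; exact hsub1 hd'
    · exact hsq hd'
    · -- the centre is everything
      have htop : Subgroup.center ↥Q = ⊤ := (Subgroup.card_eq_iff_eq_top _).1 (by rw [hm, hj])
      rcases hj3 with h' | ⟨-, hn⟩
      · omega
      · exact hn ⟨⟨fun a b => (Subgroup.mem_center_iff.1 (htop ▸ Subgroup.mem_top b) a)⟩⟩

/-- Elements of `g`'s cyclic group lie in `D` once its prime-power elements do. -/
theorem mem_of_prime_power_mem [Finite G] {g : G} (D : Subgroup G)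
    (h : ∀ q : ℕ, q.Prime → q ∣ orderOf g → ∀ x ∈ Subgroup.zpowers g, (∃ k, orderOf x = q ^ k) → x ∈ D) :
    g ∈ D := by
  let Z := Subgroup.zpowers g
  let D' := D.subgroupOf Z
  suffices hD : D' = ⊤ by
    have : (⟨g, Subgroup.mem_zpowers g⟩ : ↥Z) ∈ D' := hD ▸ Subgroup.mem_top _
    exact this
  rw [← Subgroup.card_eq_iff_eq_top]
  refine Nat.dvd_antisymm (Subgroup.card_subgroup_dvd_card D') ?_
  rw [Nat.dvd_iff_prime_pow_dvd_dvd]
  intro q k hq hqk
  haveI := Fact.mk hq
  rcases Nat.eq_zero_or_pos k with hk | hk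
  · simp [hk]
  obtain ⟨P, hP⟩ := Sylow.exists_subgroup_card_pow_prime q hqk
  have hPD : P ≤ D' := fun x hx => by
    obtain ⟨a, -, ha⟩ := (Nat.dvd_prime_pow hq).1 (hP ▸ P.orderOf_dvd_natCard hx)
    exact h q hq (by
      rw [← Nat.card_zpowers]
      exact (dvd_pow_self q hk.ne').trans hqk) x.1 x.2 ⟨a, by rw [Subgroup.orderOf_coe, ha]⟩
  exact hP ▸ Subgroup.card_dvd_of_le hPD

/-- A simple group with self-centralizing non-cyclic subgroups has even order. -/
theorem SCN.two_dvd_card [Finite G] [IsSimpleGroup G] (h : SCN G) (hna : ¬ IsMulCommutative G) :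
    2 ∣ Nat.card G := by
  by_contra hodd
  have hne1 : Nat.card G ≠ 1 := fun h1 => hna
    ⟨⟨fun a b => by haveI := (Nat.card_eq_one_iff_unique.1 h1).1; exact Subsingleton.elim _ _⟩⟩
  have hrp : (Nat.card G).minFac.Prime := Nat.minFac_prime hne1
  set r := (Nat.card G).minFac with hr_def
  haveI := Fact.mk hrp
  have hr2 : r ≠ 2 := fun h2 => hodd (h2 ▸ Nat.minFac_dvd _)
  let P : Sylow r G := default
  obtain ⟨N, hN, hNP⟩ := (Cfsg.Agent.S0071.result P).2 fun Q hQP g hgQ hg => by
    have hQ : IsPGroup r ↥Q := P.2.to_le hQP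
    have hsmall : Nat.card ↥Q ≤ r ^ 2 ∨ (Nat.card ↥Q = r ^ 3 ∧ ¬ IsMulCommutative ↥Q) ∨ IsCyclic ↥Q := by
      by_cases hc : IsCyclic ↥Q
      · exact .inr (.inr hc)
      by_cases hm : IsMulCommutative ↥Q
      · exact .inl ((h.subgroup Q).card_comm_pgroup hQ (fun a b => hm.is_comm.comm a b) hc).1.le
      · exact .inr (.inl ⟨(Cfsg.Agent.S3918.result hr2 hQ hm).1 (h.subgroup Q), hm⟩)
    refine mem_of_prime_power_mem (Subgroup.centralizer (Q : Set G)) fun q hq hqg x hx hxq => ?_
    haveI := Fact.mk hq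
    have hqr : q ≠ r := fun e => by
      have h1 : q ∣ Nat.gcd (orderOf g) r := Nat.dvd_gcd hqg (e ▸ dvd_rfl)
      rw [hg] at h1
      exact hq.one_lt.ne' (Nat.dvd_one.1 h1)
    have hle : r ≤ q := Nat.minFac_le_of_dvd hq.two_le (hqg.trans (orderOf_dvd_natCard g))
    exact centralizes_of_small hr2 (lt_of_le_of_ne hle (Ne.symm hqr)) hQ hsmall hxq
      ((Subgroup.zpowers_le.2 hgQ) hx)
  rcases hN.eq_bot_or_eq_top with rfl | rfl
  · rw [Subgroup.isComplement'_bot_left] at hNP
    have hG : IsPGroup r G := (hNP ▸ P.2 : IsPGroup r ↥(⊤ : Subgroup G)).of_equiv Subgroup.topEquiv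
    haveI : Nontrivial G := Finite.one_lt_card_iff_nontrivial.1 (by have := Nat.card_pos (α := G); omega)
    haveI := hG.center_nontrivial
    rcases (inferInstance : (Subgroup.center G).Normal).eq_bot_or_eq_top with hz | hz
    · exact absurd hz (Subgroup.nontrivial_iff_ne_bot _ |>.1 inferInstance)
    · exact hna ⟨⟨fun a b => Subgroup.mem_center_iff.1 (hz ▸ Subgroup.mem_top b) a⟩⟩
  · rw [Subgroup.isComplement'_top_left] at hNP
    exact P.ne_bot_of_dvd_card (Nat.minFac_dvd _) hNP

end CfsgLib.SelfCentralNC
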